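import Cfsg.Agent.H0.Ru.D2
set_option maxRecDepth 100000
set_option Elab.async false
namespace H0.Ru
open BN H6
theorem r494 : rB 494 57 = true := by decide +kernel
theorem r551 : rB 551 54 = true := by decide +kernel
theorem r605 : rB 605 56 = true := by decide +kernel
theorem r661 : rB 661 57 = true := by decide +kernel
theorem r718 : rB 718 53 = true := by decide +kernel
theorem r771 : rB 771 57 = true := by decide +kernel
theorem r828 : rB 828 56 = true := by decide +kernel
end H0.Ru
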