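import Cfsg.Agent.H0.Ru.D2
set_option maxRecDepth 100000
set_option Elab.async false
namespace H0.Ru
open BN H6
theorem r884 : rB 884 53 = true := by decide +kernel
theorem r937 : rB 937 54 = true := by decide +kernel
theorem r991 : rB 991 52 = true := by decide +kernel
theorem r1043 : rB 1043 56 = true := by decide +kernel
theorem r1099 : rB 1099 52 = true := by decide +kernel
theorem r1151 : rB 1151 54 = true := by decide +kernel
theorem r1205 : rB 1205 56 = true := by decide +kernel
end H0.Ru
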