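import Cfsg.Agent.H0.Ru.D2
set_option maxRecDepth 100000
set_option Elab.async false
namespace H0.Ru
open BN H6
theorem r1261 : rB 1261 56 = true := by decide +kernel
theorem r1317 : rB 1317 55 = true := by decide +kernel
theorem r1372 : rB 1372 56 = true := by decide +kernel
theorem r1428 : rB 1428 52 = true := by decide +kernel
theorem r1480 : rB 1480 52 = true := by decide +kernel
theorem r1532 : rB 1532 56 = true := by decide +kernel
theorem r1588 : rB 1588 47 = true := by decide +kernel
end H0.Ru
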