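import Cfsg.Agent.H0.Ru.R0
import Cfsg.Agent.H0.Ru.R1
import Cfsg.Agent.H0.Ru.R2
import Cfsg.Agent.H0.Ru.R3
set_option maxRecDepth 100000
set_option Elab.async false
namespace H0.Ru
open BN H6
theorem rall {P : List ℕ × List ℕ → Prop} (h : ∀ {a b}, rB a b = true → ∀ e ∈ (RE.drop a).take b, P e) : ∀ e ∈ RE, P e :=
  all_take_done (all_take_step (all_take_step (all_take_step (all_take_step (all_take_step (all_take_step (all_take_step (all_take_step (all_take_step (all_take_step (all_take_step (all_take_step (all_take_step (all_take_step (all_take_step (all_take_step (all_take_step (all_take_step (all_take_step (all_take_step (all_take_step (all_take_step (all_take_step (all_take_step (all_take_step (all_take_step (all_take_step (all_take_step (all_take_zero _ RE) (h r0)) (h r98)) (h r169)) (h r239)) (h r309)) (h r375)) (h r435)) (h r494)) (h r551)) (h r605)) (h r661)) (h r718)) (h r771)) (h r828)) (h r884)) (h r937)) (h r991)) (h r1043)) (h r1099)) (h r1151)) (h r1205)) (h r1261)) (h r1317)) (h r1372)) (h r1428)) (h r1480)) (h r1532)) (h r1588)) (by decide +kernel)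
end H0.Ru
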