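import Cfsg.Agent.H0.Ru.L
import Cfsg.Agent.H0.Ru.R
import Cfsg.Agent.H0.MRu.Main
import Cfsg.Agent.H0.Tr

/-! The minimal vectors of the Rudvalis lattice. -/

set_option maxRecDepth 100000
namespace H0.Ru
open Cfsg.Spor Matrix Finset H6 BN Subgroup
noncomputable def ω : Γ := fw.choose
theorem ι_eq {f : Γ} {T : Mx} (h : M f = T) {a : ℕ} (h2 : ∀ q : RuIdx × RuIdx, C.val a q.1 q.2 = 193 * ρ (T q.1 q.2)) : ι f = C.val a := by
  ext q p; rw [h2 (q, p), ← h]; rfl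
theorem ιω : ι ω = C.val (c.getD 2 C.one) := ι_eq fw.choose_spec (by decide +kernel)
theorem ex : ∀ x < 3, Ex ι C (c.getD x C.one) := by
  intro x hx; interval_cases x
  exacts [fa.imp fun _ h => ι_eq h (by decide +kernel), fb.imp fun _ h => ι_eq h (by decide +kernel), ⟨ω, ιω⟩]
noncomputable def g := gOf ι C c ds 3 ex
theorem cod : C.Cod ι g c := cod_gOf (by decide +kernel)
theorem hE : ∀ e ∈ RE, ev g e.1 = ev g e.2 := rall fun h => C.pairs hι cod h
theorem ac_mul (f k : Γ) (x) : ac (f * k) x = ac f (k.1 x) := rfl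
theorem ac_ω (x : ruLattice) : ac ω x = gI • x.1 := c4 (by rw [four, ω, fw.choose_spec, smul_mulVec, one_mulVec, mul_smul])
theorem ac_sm (f : Γ) {x y : ruLattice} {ε : Zi} (h : x.1 = ε • y.1) : ac f x = ε • ac f y :=
  (congrArg (aL f) (Subtype.ext h : tL x = ε • tL y)).trans (map_smul (aL f) ε (tL y))
noncomputable def Z : Subgroup Γ := zpowers ω
theorem Z_le : Z ≤ center Γ := zpowers_le.2 (mem_center_iff.2 fun f => ext' fun p => by
  rw [ac_mul, ac_mul, ac_sm f (ac_ω _), ac_ω]; rfl)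
instance : Z.Normal := ⟨fun n hn f => by rw [mem_center_iff.1 (Z_le hn) f]; simpa⟩
noncomputable def g' (x : ℕ) : Γ ⧸ Z := g (3 + x)
theorem ev_g' (w) : ev g' w = (ev g (sh 3 w) : Γ) := by rw [ev_sh]; exact (map_ev (QuotientGroup.mk' Z) _ w).symm
theorem zZ : g 15 ∈ Z := by
  rw [show g 15 = ω * ω from hι (by rw [map_mul, ιω, ← C.hmul, cod 15 (by decide +kernel)]; exact C.veq (by decide +kernel))]
  exact mul_mem (mem_zpowers _) (mem_zpowers _)
theorem hE' : ∀ e ∈ covE 12 MRu.B J ++ [(List.replicate 2 12, [])], ev (fun x => g (3 + x)) e.1 = ev (fun x => g (3 + x)) e.2 :=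
  fun e he => by rw [← ev_sh, ← ev_sh]; exact hE _ (List.mem_map_of_mem he)
theorem rel : ∀ r ∈ MRu.B, ev g' r = 1 := fun r hr => by
  obtain ⟨i, hi, rfl⟩ := List.getElem_of_mem hr
  have hl : MRu.B.length = J.length := by decide +kernel
  have := hE' (MRu.B[i], List.replicate (J[i]'(hl ▸ hi)) 12) (List.mem_append_left _ (List.mem_append_left _
    (List.mem_map.2 ⟨(_, _), List.mem_iff_getElem.2 ⟨i, by simp [← hl, hi], List.getElem_zip⟩, rfl⟩)))
  rw [ev_g', ev_sh, this, QuotientGroup.eq_one_iff]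
  exact ev_mem_of_letters _ fun x hx => List.eq_of_mem_replicate hx ▸ zZ
abbrev G := PG 12 MRu.B
noncomputable def θ : G →* Γ ⧸ Z := pgHom g' rel (by decide +kernel)
noncomputable def m : Model G := MRu.m (Pres.pg _ _)
theorem θ_ev {w : List ℕ} (h : w.all (Nat.blt · 12) = true) : θ (ev m.g w) = (ev g (sh 3 w) : Γ) := by
  rw [map_ev, ← ev_g']
  refine TC.ev_congr fun x hx => ?_
  have hx : x < 12 := by simpa using List.all_eq_true.1 h x hx
  exact (congrArg θ (MRu.g_eq _ hx)).trans (pgHom_of hx)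
def o : RuIdx := (0, 0)
theorem su {ε : Zi} (h : ε.norm = 1) : star ε * ε = 1 := by rw [mul_comm, ← Zsqrtd.norm_eq_mul_conj, h]; rfl
theorem ac_inv (f : Γ) (x : ruLattice) : ac f⁻¹ (f.1 x) = x := by rw [← ac_mul, inv_mul_cancel]; rfl
def Sl : Subgroup Γ where
  carrier := {f | ∃ ε : Zi, ε.norm = 1 ∧ ac f (E o) = ε • (E o).1}
  one_mem' := ⟨1, rfl, (one_smul _ _).symm⟩
  mul_mem' := fun ⟨a, a1, a2⟩ ⟨b, b1, b2⟩ => ⟨b * a, by rw [Zsqrtd.norm_mul, a1, b1]; rfl, by rw [ac_mul, ac_sm _ b2, a2, mul_smul]⟩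
  inv_mem' := fun {f} ⟨a, a1, a2⟩ => ⟨star a, by simpa, by rw [← ac_inv f (E o), ac_sm _ a2, smul_smul, su a1, one_smul]⟩
theorem ZS : Z ≤ Sl := zpowers_le.2 ⟨gI, rfl, ac_ω _⟩
def τ (f : Γ) : ℤ := (ac f (E o) o).norm
theorem ip_inv (f : Γ) (x y : ruLattice) : ip (ac f x) y.1 = ip x.1 (ac f⁻¹ y) := by
  rw [← ip_ac f⁻¹ (f.1 x) y |>.symm.trans (congrArg (ip · _) (ac_inv f x))]; rfl
theorem τ_mul {a b : Γ} (ha : a ∈ Sl) (hb : b ∈ Sl) (f : Γ) : τ (a * f * b) = τ f := by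
  obtain ⟨x, x1, x2⟩ := inv_mem ha
  obtain ⟨y, y1, y2⟩ := hb
  have : 4 * ac (a * f * b) (E o) o = y * star x * (4 * ac f (E o) o) := by
    rw [← ip_e, ← ip_e, ac_mul, ac_sm _ y2, ip_smull, ac_mul, show ep o = (E o).1 from rfl, ip_inv, x2, ip_smulr, mul_assoc]; rfl
  have := congrArg Zsqrtd.norm this
  simp only [Zsqrtd.norm_mul, Zsqrtd.norm_conj, x1, y1, one_mul] at this
  exact mul_left_cancel₀ (by decide) this
theorem colw (w : List ℕ) (y : RuVec) (h : w.all (Nat.blt · c.length) = true ∧ ∀ q, (y q).norm ≤ 16 ∧ C.val (C.mev c w) q o = 193 * ρ (y q)) :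
    ac (ev g w) (E o) = y :=
  col (fun q => (h.2 q).1) fun q => by rw [C.map_mev ι fun x hx => cod x (by simpa using List.all_eq_true.1 h.1 x hx)]; exact (h.2 q).2
theorem fix0 : Model.fixP MRu.R [0] [[3], [4], [5], [6], [7], [8], [9], [10], [11]] = true := by decide +kernel
theorem pst_le : m.pst [0] ≤ (Sl.map (QuotientGroup.mk' Z)).comap θ := by
  rw [← (m.stab_index (m.gen_le_of_fixP fix0) (MRu.top (Pres.pg _ _) ▸ chain_index (σ := [[0], [1], [2], [3], [4], [5], [6], [7], [8], [9], [10], [11]])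
    TCRu0.main rfl rfl (fun w hw => MRu.grel _ w ((List.isSublist_iff_sublist.1 (by decide +kernel)).subset hw))) (MRu.trans _)).2]
  have : ∀ w ∈ [[3], [4], [5], [6], [7], [8], [9], [10], [11]], w.all (Nat.blt · 12) = true ∧ ∃ ε ∈ [1, -1, gI, -gI], Zsqrtd.norm ε = 1 ∧
      (sh 3 w).all (Nat.blt · c.length) = true ∧ ∀ q, ((ε • ep o) q).norm ≤ 16 ∧ C.val (C.mev c (sh 3 w)) q o = 193 * ρ ((ε • ep o) q) := by decide +kernel
  refine gen_le fun w hw => ?_
  obtain ⟨a, ε, -, b, h⟩ := this w hw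
  exact ⟨_, ⟨ε, b, colw _ _ h⟩, (θ_ev a).symm⟩
def tv (n : ℕ) : ℤ := if n = 0 then 16 else if n < 1756 then 0 else 1
theorem τ_of {x : G} {f : Γ} (hf : θ x = f) {w : List ℕ} (hw : w.all (Nat.blt · 12) = true) (h : m.φ x 0 ∈ m.orb (m.pst [0]) (m.φ (ev m.g w) 0)) :
    τ f = τ (ev g (sh 3 w)) := by
  obtain ⟨k, hk, e⟩ := h
  obtain ⟨a, a1, a2⟩ := pst_le hk
  obtain ⟨b, b1, b2⟩ := pst_le (show (k * ev m.g w)⁻¹ * x ∈ m.pst [0] by simp [Model.mem_pst, ← e])
  have : ((a * ev g (sh 3 w) * b : Γ) : Γ ⧸ Z) = f := by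
    rw [QuotientGroup.mk_mul, QuotientGroup.mk_mul, ← θ_ev hw, ← hf, show (a : Γ ⧸ Z) = _ from a2, show (b : Γ ⧸ Z) = _ from b2, ← map_mul, ← map_mul]; congr 1; group
  rw [← τ_mul a1 (mul_mem b1 (ZS (QuotientGroup.eq.1 this))) (ev g _), ← mul_assoc, mul_inv_cancel_left]
theorem τ_eq {x : G} {f : Γ} (hf : θ x = f) : τ f = tv (m.φ x 0) := by
  have h1 : m.φ x 0 ∈ Set.Ico 0 (0 + 4060) := (MRu.trans _).le ⟨x, trivial, rfl⟩
  have le := m.gen_le_pst MRu.c34
  unfold tv; split_ifs with a b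
  · rw [τ_of hf (w := []) rfl ⟨1, one_mem _, by simpa using a.symm⟩]; rfl
  · rw [τ_of hf (w := [1, 1]) rfl (m.apply_w (by decide +kernel) MRu.c36 ▸ m.orb_mono le _
      (m.ico_subset_orb (MRu.sub1 _) (by decide +kernel) ⟨by omega, b⟩)), τ, colw _ (fun q => gm Y1 q o) (by decide +kernel)]; decide +kernel
  · rw [τ_of hf (w := [0]) rfl (m.apply_w (by decide +kernel) MRu.c39 ▸ m.orb_mono le _
      (m.ico_subset_orb (MRu.sub1756 _) (by decide +kernel) ⟨by omega, h1.2⟩)), τ, colw _ (fun q => gm Ma q o) (by decide +kernel)]; decide +kernel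
def Min : Set ruLattice := {x | ip x.1 x.1 = 16}
theorem min_fin : Min.Finite ∧ Min.ncard ≤ 16240 := by
  choose k hk using fun j : Fin 4060 => m.ex_pt (MRu.trans _) (b := j) ⟨Nat.zero_le _, by simp⟩
  let s := fun j => (θ (k j)).out
  have e : ∀ i j, ip (ac (s j) (E o)) (ac (s i) (E o)) = 4 * ac ((s i)⁻¹ * s j) (E o) o := fun i j => by
    rw [← ip_e, ac_mul]; exact ((ip_inv _ _ (E o)).trans (by rw [inv_inv]; rfl)).symm
  have t : ∀ i j, τ ((s i)⁻¹ * s j) = tv (m.φ (k i)⁻¹ j) := fun i j =>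
    (τ_eq (x := (k i)⁻¹ * k j) (by simp [s])).trans (by rw [map_mul, Equiv.Perm.mul_apply, hk])
  have lt : ∀ i (j : Fin 4060), m.φ (k i)⁻¹ j < 4060 := fun i j => by
    exact ((MRu.trans _).le ⟨(k i)⁻¹ * k j, trivial, show m.φ _ _ = _ by rw [map_mul, Equiv.Perm.mul_apply, hk]⟩).2
  have cl := fun x (hx : x ∈ Min) => classify (u := fun j => ac (s j) (E o)) (by decide) (by simp) (fun i => (ip_ac ..).trans (nE o))
    (fun i => by
      rw [← show ∑ j : Fin 4060, ((16 * tv j : ℤ) : Zi) ^ 2 = 655360 by decide +kernel]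
      refine Fintype.sum_bijective (fun j => ⟨_, lt i j⟩) (Finite.injective_iff_bijective.1 fun a b h =>
        Fin.ext ((m.φ _).injective (congrArg Fin.val h))) _ _ fun j => ?_
      rw [← ip_star, Zsqrtd.norm_conj, e, Zsqrtd.norm_mul, ← t]; rfl)
    (fun i j h => ⟨_, e i j, (t i j).trans_le (by
      have : m.φ (k i)⁻¹ j ≠ 0 := fun e => h (Fin.ext (by rw [← hk i, ← e]; simp))
      unfold tv; split_ifs <;> simp_all)⟩) hx (fun j => ⟨_, by rw [← ip_star, ip_inv, ip_star]; exact ip_e _ o⟩)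
  have : Min ⊆ Set.range fun p : Fin 4 × Fin 4060 => (ω ^ p.1.1 * s p.2).1 (E o) := fun x hx => by
    obtain ⟨j, ε, h1, h2⟩ := cl x hx
    have w : ∀ n y, ac (ω ^ n) y = gI ^ n • y.1 := fun n => by
      induction n with
      | zero => simp [ac]
      | succ n ih => intro y; rw [pow_succ', ac_mul, ac_ω, pow_succ', mul_smul]; exact congrArg _ (ih y)
    obtain ⟨n, rfl⟩ : ∃ n : Fin 4, gI ^ n.1 = ε := by
      obtain ⟨a, b⟩ := ε
      rw [nsq] at h1
      have : -1 ≤ a ∧ a ≤ 1 ∧ -1 ≤ b ∧ b ≤ 1 := by refine ⟨?_, ?_, ?_, ?_⟩ <;> nlinarith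
      obtain ⟨_, _, _, _⟩ := this
      revert h1; interval_cases a <;> interval_cases b <;> decide
    exact ⟨(n, j), Subtype.ext ((w n _).trans h2.symm)⟩
  refine ⟨(Set.finite_range _).subset this, (Set.ncard_le_ncard this (Set.finite_range _)).trans ?_⟩
  rw [← Set.image_univ]; exact (Set.ncard_image_le Set.finite_univ).trans (by simp [Set.ncard_univ])
end H0.Ru
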