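import Cfsg.Agent.H0.Ru.D3
set_option maxRecDepth 100000
set_option Elab.async false
namespace H0.Ru
theorem ylen : Y.length = 16240 := by decide +kernel
theorem yc2 : Y.countP (fun r => Nat.beq (r % 512 ^ 2) (kb.getD 2 0 % 512 ^ 2)) ≤ sz.getD 2 0 := by decide +kernel
theorem yc5 : Y.countP (fun r => Nat.beq (r % 512 ^ 5) (kb.getD 5 0 % 512 ^ 5)) ≤ sz.getD 5 0 := by decide +kernel
theorem yc8 : Y.countP (fun r => Nat.beq (r % 512 ^ 8) (kb.getD 8 0 % 512 ^ 8)) ≤ sz.getD 8 0 := by decide +kernel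
theorem yc11 : Y.countP (fun r => Nat.beq (r % 512 ^ 11) (kb.getD 11 0 % 512 ^ 11)) ≤ sz.getD 11 0 := by decide +kernel
theorem yc14 : Y.countP (fun r => Nat.beq (r % 512 ^ 14) (kb.getD 14 0 % 512 ^ 14)) ≤ sz.getD 14 0 := by decide +kernel
theorem yc17 : Y.countP (fun r => Nat.beq (r % 512 ^ 17) (kb.getD 17 0 % 512 ^ 17)) ≤ sz.getD 17 0 := by decide +kernel
theorem yc20 : Y.countP (fun r => Nat.beq (r % 512 ^ 20) (kb.getD 20 0 % 512 ^ 20)) ≤ sz.getD 20 0 := by decide +kernel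
end H0.Ru
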