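import Cfsg.Agent.H0.Ru.D3
set_option maxRecDepth 100000
set_option Elab.async false
namespace H0.Ru
theorem yc0 : Y.countP (fun r => Nat.beq (r % 512 ^ 0) (kb.getD 0 0 % 512 ^ 0)) ≤ sz.getD 0 0 := by decide +kernel
theorem yc3 : Y.countP (fun r => Nat.beq (r % 512 ^ 3) (kb.getD 3 0 % 512 ^ 3)) ≤ sz.getD 3 0 := by decide +kernel
theorem yc6 : Y.countP (fun r => Nat.beq (r % 512 ^ 6) (kb.getD 6 0 % 512 ^ 6)) ≤ sz.getD 6 0 := by decide +kernel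
theorem yc9 : Y.countP (fun r => Nat.beq (r % 512 ^ 9) (kb.getD 9 0 % 512 ^ 9)) ≤ sz.getD 9 0 := by decide +kernel
theorem yc12 : Y.countP (fun r => Nat.beq (r % 512 ^ 12) (kb.getD 12 0 % 512 ^ 12)) ≤ sz.getD 12 0 := by decide +kernel
theorem yc15 : Y.countP (fun r => Nat.beq (r % 512 ^ 15) (kb.getD 15 0 % 512 ^ 15)) ≤ sz.getD 15 0 := by decide +kernel
theorem yc18 : Y.countP (fun r => Nat.beq (r % 512 ^ 18) (kb.getD 18 0 % 512 ^ 18)) ≤ sz.getD 18 0 := by decide +kernel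
end H0.Ru
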