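import Cfsg.Agent.H0.Ru.D3
set_option maxRecDepth 100000
set_option Elab.async false
namespace H0.Ru
open BN H6
theorem w1 : wk st1 a1 a2 = true := by decide +kernel
end H0.Ru
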