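import Cfsg.Agent.H0.Ru.N0
import Cfsg.Agent.H0.Ru.N1
import Cfsg.Agent.H0.Ru.N2
import Cfsg.Agent.H0.Ru.Y0
import Cfsg.Agent.H0.Ru.Y1
import Cfsg.Agent.H0.Ru.Y2
set_option maxRecDepth 100000
set_option Elab.async false
namespace H0.Ru
open BN H6
theorem yall {P Q : ℕ → Prop} (h0 : P C.one) (h : ∀ {st a b}, wk st a b = true → P a → P b ∧ ∀ s ∈ st, ∀ e ∈ s.2, Q e.2) : ∀ y ∈ Y, Q y := by
  have h1 := h w0 h0
  have h2 := h w1 h1.1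
  have h3 := h w2 h2.1
  intro y hy
  simp only [Y, List.mem_flatMap, List.mem_map] at hy
  obtain ⟨st, a, s, b, e, c, rfl⟩ := hy
  exact (show ∀ st ∈ [st0, st1, st2], ∀ s ∈ (st : List (ℕ × List (ℕ × ℕ))), ∀ e ∈ s.2, Q e.2 from (List.forall_mem_cons.2 ⟨h1.2, (List.forall_mem_cons.2 ⟨h2.2, (List.forall_mem_cons.2 ⟨h3.2, (fun _ h => nomatch h)⟩)⟩)⟩)) st a s b e c
theorem yc : ∀ k < 21, Y.countP (fun r => Nat.beq (r % 512 ^ k) (kb.getD k 0 % 512 ^ k)) ≤ sz.getD k 0 := by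
  intro k hk; interval_cases k
  exacts [yc0, yc1, yc2, yc3, yc4, yc5, yc6, yc7, yc8, yc9, yc10, yc11, yc12, yc13, yc14, yc15, yc16, yc17, yc18, yc19, yc20]
end H0.Ru
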