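import Cfsg.Agent.H0.Ru.Cl
import Cfsg.Agent.H0.Ru.Y

/-! The automorphism group of the Rudvalis lattice. -/

set_option maxRecDepth 100000
namespace H0.Ru
open Cfsg.Spor Matrix Finset H6 BN Subgroup
def ee : RuIdx ≃ Fin (7 * 4) := finProdFinEquiv
def px (k : ℕ) : RuIdx := ee.symm ⟨k % 28, Nat.mod_lt _ (by decide)⟩
def bv (k : ℕ) : RuVec := fun q => gm Vc q (px k)
def ky (x : RuVec) (n : ℕ) : ℕ := ∑ k ∈ range n, (193 * ρ (ip (bv k) x)).val * 2 ^ (9 * k)
theorem hV : ∀ q : RuIdx × RuIdx, C.val Vp q.1 q.2 = ρ (gm Vc q.1 q.2) := by decide +kernel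
theorem hVC : ∀ p q, gm Vc q p = ∑ r, gm Bc q r * gm VC r p := by decide +kernel
def Bv (k : ℕ) : ruLattice := ⟨bv k, SL ((funext (hVC _) : bv k = gm Bc *ᵥ (gm VC)ᵀ (px k)) ▸ mS _)⟩
theorem hB : ∀ k < 21, ip (bv k) (bv k) = 16 ∧ ky (bv k) 21 = kb.getD k 0 := by decide +kernel
theorem key_row {f : Γ} {a q : ℕ} (h : ι f = C.val a) (hq : q < 28) : keyR (C.mul a Vp) q = ky (ac f⁻¹ (E (px q))) 21 := by
  rw [keyR, sumLt_eq]
  refine sum_congr rfl fun k hk => (Nat.shiftLeft_eq _ _).trans (congrArg (· * _) ?_)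
  have hk : k < 28 := (mem_range.1 hk).trans (by decide)
  have e : ∀ {k}, k < 28 → (ee (px k) : ℕ) = k := fun h => by simp [px, Nat.mod_eq_of_lt h]
  have : C.val (C.mul a Vp) (px q) (px k) = (eP 28 24 9 (C.mul a Vp) q k : ℕ) := by
    conv_rhs => rw [← e hq, ← e hk]
    rfl
  refine (ZMod.val_natCast 257 _).symm.trans (congrArg _ (this.symm.trans ?_))
  rw [C.hmul, ← h, mul_apply, ip, map_sum, mul_sum]
  refine sum_congr rfl fun p _ => ?_
  have : ac f (E p) (px q) = star (ac f⁻¹ (E (px q)) p) := mul_left_cancel₀ (show (4 : Zi) ≠ 0 by decide) (by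
    rw [← ip_e, show ep (px q) = (E (px q)).1 from rfl, ip_inv, ← ip_star]; exact (congrArg star (ip_e _ p)).trans (by simp))
  rw [hV (p, px k), map_mul, ← this]
  show 193 * ρ (ac f (E p) (px q)) * _ = _ * (ρ (gm Vc p (px k)) * _); ring
theorem wk_cons (s st a b) : wk (s :: st) a b = (Nat.blt s.1 c.length && rec1 (C.mul a (c.getD s.1 C.one)) s.2 && wk st (C.mul a (c.getD s.1 C.one)) b) :=
  force_eq (C.mul a (c.getD s.1 C.one)) fun a' => Nat.blt s.1 c.length && rec1 a' s.2 && wk st a' b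
theorem rec1_cons (a y l) : rec1 a (y :: l) = BN.allL (fun e => Nat.blt e.1 28 && Nat.beq (keyR (C.mul a Vp) e.1) e.2) (y :: l) := by
  rw [rec1]; generalize C.mul a Vp = S; exact force_eq S fun S => BN.allL (fun e => Nat.blt e.1 28 && Nat.beq (keyR S e.1) e.2) (y :: l)
theorem wk_spec {st} : ∀ {a b}, wk st a b = true → Ex ι C a → Ex ι C b ∧ ∀ s ∈ st, ∀ e ∈ s.2, ∃ x ∈ Min, ky x.1 21 = e.2 := by
  induction st with
  | nil => exact fun h h1 => ⟨Nat.eq_of_beq_eq_true h ▸ h1, nofun⟩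
  | cons s st ih =>
    intro a b h ⟨f, hf⟩
    simp only [wk_cons, Bool.and_eq_true, Nat.blt_eq] at h
    have h1 : ι (f * g s.1) = C.val (C.mul a (c.getD s.1 C.one)) := by rw [map_mul, hf, cod _ h.1.1, C.hmul]
    refine (ih h.2 ⟨_, h1⟩).imp_right fun h2 => List.forall_mem_cons.2 ⟨fun e he => ?_, h2⟩
    obtain ⟨x, _ | ⟨y, l⟩⟩ := s
    · cases he
    have := BN.allL_spec ((rec1_cons ..).symm.trans h.1.2) e he
    simp only [Bool.and_eq_true, Nat.blt_eq, Nat.beq_eq] at this
    exact ⟨(f * g x)⁻¹.1 (E (px e.1)), (ip_ac _ _ _).trans (nE _), (key_row h1 this.1).symm.trans this.2⟩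
theorem part_eq (f : ℕ → Bool) (K) : ∀ l a b, part f l a b K = K ((l.filter (!f ·)).reverse ++ a) ((l.filter f).reverse ++ b)
  | [], _, _ => rfl
  | x :: l, a, b => by
    show (Bool.rec (part f l (x :: a) b K) (part f l a (x :: b) K) (f x) : Bool) = _
    cases h : f x <;> simp [part_eq f K l, h]
theorem nd_spec : ∀ k l, nd k l = true → l.Nodup := by
  have z : ∀ l : List ℕ, l.tail.isEmpty = true → l.Nodup := fun l h => by rcases l with _ | ⟨_, _ | _⟩ <;> simp_all
  intro k
  induction k with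
  | zero => exact z
  | succ k ih =>
    intro l h
    rcases Bool.or_eq_true_iff.1 h with h | h
    · exact z l h
    rw [part_eq, Bool.and_eq_true] at h
    have a := ih _ h.1
    have b := ih _ h.2
    simp only [List.append_nil, List.nodup_reverse] at a b
    exact (List.filter_append_perm _ l).nodup_iff.1 (List.nodup_append.2 ⟨b, a, fun x hx y hy e => by subst e; simp_all⟩)
theorem keys : (fun x : ruLattice => ky x.1 21) '' Min = Y.toFinset ∧ Set.InjOn (fun x : ruLattice => ky x.1 21) Min := by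
  have a : (Y.toFinset : Set ℕ) ⊆ (fun x : ruLattice => ky x.1 21) '' Min := fun y hy =>
    yall (P := Ex ι C) ⟨1, by rw [map_one, C.h1]⟩ wk_spec y (by simpa using hy)
  have b : (Y.toFinset : Set ℕ).ncard = 16240 := by rw [Set.ncard_coe_finset, List.toFinset_card_of_nodup (nd_spec _ _ ynd), ylen]
  have c := Set.ncard_image_le (f := fun x : ruLattice => ky x.1 21) min_fin.1
  have d := Set.ncard_le_ncard a (min_fin.1.image _)
  have e := min_fin.2
  exact ⟨(Set.eq_of_subset_of_ncard_le a (by omega) (min_fin.1.image _)).symm, Set.injOn_of_ncard_image_eq (by omega) min_fin.1⟩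
theorem ky_mod (x : RuVec) (k : ℕ) : ∀ n, ky x (k + n) % 512 ^ k = ky x k % 512 ^ k
  | 0 => rfl
  | n + 1 => by
    rw [← ky_mod x k n, ← add_assoc, ky, sum_range_succ, pow_mul, pow_add, mul_left_comm]; exact Nat.add_mul_mod_self_left ..
def St (k : ℕ) : Subgroup Γ := ⨅ i < k, MulAction.stabilizer Γ (Bv i)
theorem mem_St {k f} : f ∈ St k ↔ ∀ i < k, f.1 (Bv i) = Bv i := by simp only [St, mem_iInf]; rfl
theorem ky_St {k f} (h : f ∈ St k) (x : ruLattice) : ky (ac f x) k = ky x.1 k :=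
  sum_congr rfl fun i hi => by
    rw [show ip (bv i) (ac f x) = ip (bv i) x.1 from (congrArg (fun y : ruLattice => ip y.1 _) (mem_St.1 h i (mem_range.1 hi))).symm.trans (ip_ac f (Bv i) x)]
theorem St_step {k : ℕ} (hk : k < 21) : (St (k + 1)).relIndex (St k) ≠ 0 ∧ (St (k + 1)).relIndex (St k) ≤ sz.getD k 0 := by
  have e : (St (k + 1)).subgroupOf (St k) = MulAction.stabilizer (St k) (Bv k) := by
    ext f; rw [mem_subgroupOf, mem_St]
    exact ⟨fun h => h k (by omega), fun h i hi => (Nat.lt_succ_iff_lt_or_eq.1 hi).elim (mem_St.1 f.2 i) fun e => e ▸ h⟩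
  have s : MulAction.orbit (St k) (Bv k) ⊆ Min := by rintro _ ⟨f, rfl⟩; exact (ip_ac f.1 _ _).trans (hB k hk).1
  rw [relIndex, e, MulAction.index_stabilizer]
  refine ⟨((Set.ncard_pos (min_fin.1.subset s)).2 ⟨_, MulAction.mem_orbit_self _⟩).ne', le_trans ?_ (yc k hk)⟩
  rw [List.countP_eq_length_filter, ← (keys.2.mono s).ncard_image]
  refine le_trans (Set.ncard_le_ncard ?_ (Finset.finite_toSet _)) ((Set.ncard_coe_finset _).trans_le (List.toFinset_card_le _))
  rintro _ ⟨_, ⟨f, rfl⟩, rfl⟩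
  have := keys.1.le ⟨_, s ⟨f, rfl⟩, rfl⟩
  simp only [Finset.mem_coe, List.mem_toFinset, List.mem_filter, Nat.beq_eq] at this ⊢
  refine ⟨this, ?_⟩
  obtain ⟨n, hn⟩ := Nat.exists_eq_add_of_le hk.le
  rw [← (hB k hk).2, hn, ky_mod, ky_mod]; exact congrArg (· % _) (ky_St f.2 (Bv k))
theorem St_card : ∀ n k, k + n = 21 → Finite (St k) ∧ Nat.card (St k) ≤ ((sz.drop k).take n).prod
  | 0, k, h => by
    have : St k = ⊥ := eq_bot_iff.2 fun f hf => ext' fun p => congrArg Subtype.val
      (keys.2 (show f.1 (E p) ∈ Min from (ip_ac ..).trans (nE p)) (nE p) (by subst h; exact ky_St hf _))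
    rw [this]; exact ⟨inferInstance, by simp⟩
  | n + 1, k, h => by
    have hk : k < sz.length := show k < 21 by omega
    rw [List.drop_eq_getElem_cons hk, List.take_succ_cons, List.prod_cons, ← List.getD_eq_getElem _ 0]
    exact TC.card_le (fun f hf => mem_St.2 fun i hi => mem_St.1 hf i (by omega)) (St_step (by omega)) (St_card n (k + 1) (by omega))
theorem cardΓ : Finite Γ ∧ Nat.card Γ ≤ 145926144000 * 4 := by
  have := St_card 21 0 rfl
  rw [show St 0 = ⊤ by simp [St]] at this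
  exact ⟨(topEquiv (G := Γ)).finite_iff.1 this.1, (card_top.symm.trans_le this.2).trans (by decide +kernel)⟩
theorem cardZ : Nat.card Z = 4 := by
  have w : ∀ n, ac (ω ^ n) (E o) o = gI ^ n * 4 := fun n => by
    induction n with
    | zero => rfl
    | succ n ih => rw [pow_succ', ac_mul, ac_ω, pow_succ', mul_assoc]; exact congrArg (gI * ·) ih
  rw [Z, Nat.card_zpowers]
  refine orderOf_eq_prime_pow (p := 2) (n := 1) (fun h => absurd (h ▸ w _) (by decide)) (hι ?_)
  rw [map_pow, ιω, ← C.val_pw, map_one, ← C.h1]; exact C.veq (by decide +kernel)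
theorem isoZ : Nonempty (G ≃* Γ ⧸ Z) := by
  have := cardΓ.1
  have h : Function.Injective θ := pgHom_inj (MRu.simple (Pres.pg _ _)) (x := 0) (by decide) fun h =>
    C.ne_of cod (u := [3, 4]) (v := [4, 3]) (by decide +kernel) (by simpa using (mem_center_iff.1 (Z_le ((QuotientGroup.eq_one_iff _).1 h)) (g 4)).symm)
  have a := card_eq_card_quotient_mul_card_subgroup Z
  have b := Nat.card_le_card_of_injective θ h
  have c := cardΓ.2
  have := MRu.fin (Pres.pg _ _)
  rw [cardZ] at a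
  rw [MRu.card (Pres.pg _ _)] at b
  exact (iso_of_inj θ h ((by omega : _ = 145926144000).trans (MRu.card (Pres.pg _ _)).symm)).map .symm
theorem perf : commutator G = ⊤ :=
  haveI := MRu.simple (Pres.pg _ _)
  haveI := MRu.fin (Pres.pg _ _)
  perfect_of_simple (by rw [MRu.card (Pres.pg _ _)]; exact Nat.not_prime_of_dvd_of_lt (m := 2) (by decide) le_rfl (by decide))
theorem cen : center Γ = Z := isoZ.elim fun e => center_of_quot Z_le e (center_bot (MRu.simple (Pres.pg _ _)) perf)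
theorem iso : Nonempty (G ≃* Ru) := isoZ.map (·.trans (QuotientGroup.quotientMulEquivOfEq cen.symm))
theorem stem : StemElt G (2 ^ (0 + 1)) :=
  haveI := MRu.fin (Pres.pg _ _)
  stemElt_of (Pres.pg _ _) perf (fun x => g (3 + x)) J cc Nat.prime_two (fun e he => hE' e (List.mem_append_left _ he))
    (hE' (_, []) (List.mem_append_right _ (by simp))) (by simpa using C.ne_of cod (u := [15]) (v := []) (by decide +kernel)) (by decide +kernel)
end H0.Ru
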