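import Cfsg.Agent.H0.Ru.L0
set_option maxRecDepth 100000
namespace H0.Ru
open Cfsg.Spor Matrix Finset H6
theorem o0 : ∀ p q, opL 0 ((gm Bc)ᵀ p) q = 1 * ∑ r, gm Bc q r * gm O0 r p := by decide +kernel
theorem o1 : ∀ p q, opL 1 ((gm Bc)ᵀ p) q = 1 * ∑ r, gm Bc q r * gm O1 r p := by decide +kernel
theorem o2 : ∀ p q, opL 2 ((gm Bc)ᵀ p) q = 1 * ∑ r, gm Bc q r * gm O2 r p := by decide +kernel
end H0.Ru
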