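import Cfsg.Agent.H0.Ru.L0
set_option maxRecDepth 100000
namespace H0.Ru
open Cfsg.Spor Matrix Finset H6
theorem o3 : ∀ p q, opL 3 ((gm Bc)ᵀ p) q = 1 * ∑ r, gm Bc q r * gm O3 r p := by decide +kernel
theorem t0 : ∀ v ∈ ruTable, ∃ p, ∀ q, v q = ∑ r, gm Bc q r * gm Tc r p := by decide +kernel
theorem ua : ∀ p q, ∑ r, star (gm Ma r p) * gm Ma r q = if p = q then 16 else 0 := by decide +kernel
theorem ub : ∀ p q, ∑ r, star (gm Mb r p) * gm Mb r q = if p = q then 16 else 0 := by decide +kernel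
end H0.Ru
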