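import Cfsg.Agent.H0.Ru.L0
set_option maxRecDepth 100000
namespace H0.Ru
open Cfsg.Spor Matrix Finset H6
theorem va : ∀ p q, ∑ r, star ((gm Ma)ᴴ r p) * (gm Ma)ᴴ r q = if p = q then 16 else 0 := by decide +kernel
theorem pa : ∀ p q, ∑ r, gm Ma q r * gm Bc r p = 4 * ∑ r, gm Bc q r * gm Ca r p := by decide +kernel
theorem qa : ∀ p q, ∑ r, (gm Ma)ᴴ q r * gm Bc r p = 4 * ∑ r, gm Bc q r * gm Da r p := by decide +kernel
end H0.Ru
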