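import Cfsg.Agent.H0.Ru.L0
set_option maxRecDepth 100000
namespace H0.Ru
open Cfsg.Spor Matrix Finset H6
theorem vb : ∀ p q, ∑ r, star ((gm Mb)ᴴ r p) * (gm Mb)ᴴ r q = if p = q then 16 else 0 := by decide +kernel
theorem pb : ∀ p q, ∑ r, gm Mb q r * gm Bc r p = 4 * ∑ r, gm Bc q r * gm Cb r p := by decide +kernel
theorem qb : ∀ p q, ∑ r, (gm Mb)ᴴ q r * gm Bc r p = 4 * ∑ r, gm Bc q r * gm Db r p := by decide +kernel
end H0.Ru
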