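import Cfsg.Agent.H0.Ru.K0
import Cfsg.Agent.H0.Ru.K1
import Cfsg.Agent.H0.Ru.K2
import Cfsg.Agent.H0.Ru.K3
set_option maxRecDepth 100000
namespace H0.Ru
open Cfsg.Spor Matrix Finset H6
theorem LS {x} (hx : x ∈ ruLattice) : x ∈ S := AddSubgroup.mem_sInf.1 hx S.toAddSubgroup ⟨fun v hv => by
    obtain ⟨p, h⟩ := t0 v hv
    exact (funext h : v = gm Bc *ᵥ (gm Tc)ᵀ p) ▸ mS _, fun v hv => by
    have k : ∀ t c h, opL t v ∈ S := fun t c h => by obtain ⟨y, hy, e⟩ := lin (opL t) 1 c h hv; rwa [← e, one_smul]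
    exact ⟨S.smul_mem _ hv, k 0 _ o0, k 1 _ o1, k 2 _ o2, k 3 _ o3⟩⟩
abbrev Γ := fourRu
def ac (f : Γ) (x : ruLattice) : RuVec := (f.1 x : ruLattice)
def aL (f : Γ) : Lm →ₗ[Zi] RuVec where
  toFun x := ac f x
  map_add' x y := congrArg Subtype.val (f.2.1 x y)
  map_smul' z x := by
    let F : ruLattice →+ ruLattice := AddMonoidHom.mk' f.1 f.2.1
    have : (z • x : Lm) = (z.re • (show ruLattice from x) + z.im • ruI x : ruLattice) := Subtype.ext (zsm z x)
    show (F _ : RuVec) = _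
    rw [this, map_add, map_zsmul, map_zsmul, RingHom.id_apply, zsm]
    exact congrArg (fun t : ruLattice => ((z.re • F x + z.im • t : ruLattice) : RuVec)) (f.2.2.1 x)
def M (f : Γ) : Mx := of fun q p => ac f (E p) q
def tL (x : ruLattice) : Lm := x
theorem four (f : Γ) (x : ruLattice) : (4 : Zi) • ac f x = M f *ᵥ x := by
  have : (4 : Zi) • tL x = ∑ p, x.1 p • tL (E p) := Subtype.ext (by
    rw [Submodule.coe_sum]; ext1 q
    rw [Finset.sum_apply]
    show 4 * x.1 q = ∑ p, x.1 p * ep p q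
    simp [ep, Pi.single_apply, mul_comm])
  have := congrArg (aL f) this
  rw [map_smul, map_sum] at this
  refine this.trans ?_
  rw [mulVec_eq_sum]; exact sum_congr rfl fun p _ => by rw [map_smul, op_smul_eq_smul]; rfl
theorem c4 {u v : RuVec} (h : (4 : Zi) • u = (4 : Zi) • v) : u = v := smul_right_injective _ (by decide) h
theorem nrm (x : RuVec) : ip x x = ruNorm x := ip_self x
theorem ip_ac (f : Γ) (x y : ruLattice) : ip (ac f x) (ac f y) = ip x.1 y.1 := by
  have n : ∀ x : Lm, ip (aL f x) (aL f x) = ip x.1 x.1 := fun x => by rw [nrm, nrm]; exact congrArg _ (f.2.2.2 x)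
  have a := n (tL x + tL y)
  have b := n (tL x + gI • tL y)
  simp only [map_add, map_smul, Submodule.coe_add, Submodule.coe_smul, ip_addl, ip_addr, ip_smull, ip_smulr, n] at a b
  refine mul_left_cancel₀ (show 2 * gI ≠ 0 by decide) ?_
  rw [show star gI = -gI by decide] at b
  show _ * ip (aL f (tL x)) (aL f (tL y)) = _ * ip (tL x).1 (tL y).1
  linear_combination gI * a - b
theorem ip_e (x : RuVec) (p) : ip x (ep p) = 4 * x p := by rw [ep, ip_sr, mul_comm]; rfl
theorem nE (p) : ip (E p).1 (E p).1 = 16 := by rw [E, ip_e]; simp [ep]; norm_num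
theorem ent_le {x : RuVec} (h : ip x x = 16) (q) : (x q).norm ≤ 16 := by
  have := single_le_sum (fun a _ => GaussianInt.norm_nonneg (x a)) (mem_univ q)
  rwa [← ip_re, h] at this
theorem z771 : (771 : ZMod 257) = 0 := by decide
def ρ : Zi →+* ZMod 257 := Zsqrtd.lift ⟨16, by decide⟩
theorem ρ_inj {a b : Zi} (ha : a.norm ≤ 16) (hb : b.norm ≤ 16) (h : 193 * ρ a = 193 * ρ b) : a = b := by
  have h : ρ (a - b) = 0 := by rw [map_sub]; linear_combination 4 * h - (ρ a - ρ b) * z771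
  have : (((a - b).re + (a - b).im * 16 : ℤ) : ZMod 257) = 0 := by simpa [ρ] using h
  rw [ZMod.intCast_zmod_eq_zero_iff_dvd] at this
  rw [nsq] at ha hb
  have k : ∀ x y : ℤ, x ^ 2 + y ^ 2 ≤ 16 → (-4 ≤ x ∧ x ≤ 4) ∧ -4 ≤ y ∧ y ≤ 4 := fun x y h =>
    ⟨abs_le.1 (abs_le_of_sq_le_sq' (b := 4) (by nlinarith) (by decide) |> abs_le.2), abs_le.1 (abs_le_of_sq_le_sq' (b := 4) (by nlinarith) (by decide) |> abs_le.2)⟩
  have := k _ _ ha; have := k _ _ hb
  simp only [Zsqrtd.re_sub, Zsqrtd.im_sub] at *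
  have : a.im - b.im = 0 ∧ a.re - b.re = 0 := by
    have h1 : -8 ≤ a.im - b.im := by omega
    have h2 : a.im - b.im ≤ 8 := by omega
    generalize a.im - b.im = y at *
    interval_cases y <;> omega
  ext <;> omega
theorem M_mul (f g : Γ) : M f * M g = (4 : Zi) • M (f * g) := by
  ext1 q p; exact (congrFun (four f (g.1 (E p))) q).symm
def ι : Γ →* Matrix RuIdx RuIdx (ZMod 257) where
  toFun f := (193 : ZMod 257) • (M f).map ρ
  map_one' := by
    ext q p; simp only [M, ac, E, ep, one_apply, Pi.single_apply, Matrix.smul_apply, map_apply, of_apply, OneMemClass.coe_one, Equiv.Perm.coe_one, id]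
    split_ifs <;> decide
  map_mul' f g := by
    rw [smul_mul_smul_comm, ← Matrix.map_mul, M_mul]
    ext q p; simp only [Matrix.smul_apply, map_apply, smul_eq_mul, map_mul, map_ofNat]
    linear_combination -(193 * ρ (M (f * g) q p)) * z771
theorem col {f : Γ} {p} {y : RuVec} (hy : ∀ q, (y q).norm ≤ 16) (h : ∀ q, ι f q p = 193 * ρ (y q)) : ac f (E p) = y :=
  funext fun q => ρ_inj (ent_le ((ip_ac ..).trans (nE p)) q) (hy q) (h q)
theorem ext' {f g : Γ} (h : ∀ p, ac f (E p) = ac g (E p)) : f = g := Subtype.ext (Equiv.ext fun x => Subtype.ext (c4 (by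
  refine (four f x).trans (.trans ?_ (four g x).symm); congr 1; ext1 q p; exact congrFun (h p) q)))
theorem hι : Function.Injective ι := fun f g h => ext' fun p => col (ent_le ((ip_ac ..).trans (nE p))) fun q => by rw [h]; rfl
theorem ip_mv (T : Mx) (x y : RuVec) : ip (T *ᵥ x) y = ip x (Tᴴ *ᵥ y) := by
  simp only [ip, mulVec, dotProduct, sum_mul, star_sum, mul_sum, conjTranspose_apply, star_mul', star_star]
  rw [sum_comm]; exact sum_congr rfl fun _ _ => sum_congr rfl fun _ _ => by ring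
theorem mkAut (T : Mx) (h1 : Tᴴ * T = (16 : Zi) • 1) (h2 : T * Tᴴ = (16 : Zi) • 1)
    (a : ∀ x : ruLattice, ∃ y : ruLattice, (4 : Zi) • y.1 = T *ᵥ x) (b : ∀ x : ruLattice, ∃ y : ruLattice, (4 : Zi) • y.1 = Tᴴ *ᵥ x) : ∃ f : Γ, M f = T := by
  choose f hf using a
  choose g hg using b
  have k : ∀ (T T' : Mx) (f g : ruLattice → ruLattice), (∀ x, (4 : Zi) • (f x).1 = T *ᵥ x) → (∀ x, (4 : Zi) • (g x).1 = T' *ᵥ x) → T' * T = (16 : Zi) • 1 → ∀ x, g (f x) = x :=
    fun T T' f g hf hg h x => Subtype.ext (c4 (c4 (by rw [hg, ← mulVec_smul, hf, mulVec_mulVec, h, smul_mulVec, one_mulVec, smul_smul]; norm_num)))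
  refine ⟨⟨⟨f, g, k _ _ f g hf hg h1, k _ _ g f hg hf h2⟩, fun x y => Subtype.ext (c4 ?_), fun x => Subtype.ext (c4 ?_), fun x => ?_⟩, ?_⟩
  · simp [hf, mulVec_add]
  · show _ • (f _).1 = _ • gI • (f x).1
    rw [smul_comm, hf, hf, ← mulVec_smul]; rfl
  · refine Int.cast_injective (α := Zi) (mul_left_cancel₀ (show (16 : Zi) ≠ 0 by decide) ?_)
    have := ip_mv T x (T *ᵥ x)
    rw [mulVec_mulVec, h1, smul_mulVec, one_mulVec, ← hf] at this
    simp only [ip_smull, ip_smulr, star_ofNat, nrm] at this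
    show _ * ((ruNorm (f x).1 : ℤ) : Zi) = _
    linear_combination this
  · ext1 q p
    refine mul_left_cancel₀ (show (4 : Zi) ≠ 0 by decide) ((congrFun (hf (E p)) q).trans ?_)
    simp [E, ep, mul_comm]
theorem pres (T : Mx) (c : ℕ) (h : ∀ p q, ∑ r, T q r * gm Bc r p = 4 * ∑ r, gm Bc q r * gm c r p) (x : ruLattice) :
    ∃ y : ruLattice, (4 : Zi) • y.1 = T *ᵥ x :=
  let ⟨y, hy, e⟩ := lin T.mulVecLin 4 c h (LS x.2); ⟨⟨y, SL hy⟩, e⟩
theorem uni (T : Mx) (h : ∀ p q, ∑ r, star (T r p) * T r q = if p = q then 16 else 0) : Tᴴ * T = (16 : Zi) • 1 := by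
  ext1 p q; simpa [mul_apply, one_apply] using h p q
theorem fa : ∃ f : Γ, M f = gm Ma := mkAut _ (uni _ ua) (by simpa using uni (gm Ma)ᴴ va) (pres _ Ca pa) (pres _ Da qa)
theorem fb : ∃ f : Γ, M f = gm Mb := mkAut _ (uni _ ub) (by simpa using uni (gm Mb)ᴴ vb) (pres _ Cb pb) (pres _ Db qb)
theorem fw : ∃ f : Γ, M f = (4 * gI) • 1 := mkAut _ (by rw [conjTranspose_smul, conjTranspose_one, smul_mul_smul_comm, one_mul]; rfl)
  (by rw [conjTranspose_smul, conjTranspose_one, smul_mul_smul_comm, one_mul]; rfl)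
  (fun x => ⟨ruI x, by rw [smul_mulVec, one_mulVec, mul_smul]; rfl⟩)
  (fun x => ⟨-ruI x, by rw [conjTranspose_smul, conjTranspose_one, smul_mulVec, one_mulVec, show star (4 * gI) = 4 * -gI by decide, mul_smul, neg_smul]; rfl⟩)
end H0.Ru
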