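import Cfsg.Agent.H0.Ru.W
import Cfsg.Agent.H0.Ru.D1
import Cfsg.Prelude.Def_Spor_Ru
import Cfsg.Agent.H0.Gl

/-! The Rudvalis lattice: basis, matrices of automorphisms, reduction mod 137. -/

set_option maxRecDepth 100000
namespace H0.Ru
open Cfsg.Spor Matrix Finset H6
abbrev Mx := Matrix RuIdx RuIdx Zi
theorem cl {T : RuVec → RuVec} (h : ∀ K ∈ ruClosed, ∀ v ∈ K, T v ∈ K) {v} (hv : v ∈ ruLattice) : T v ∈ ruLattice :=
  AddSubgroup.mem_sInf.2 fun K hK => h K hK v (AddSubgroup.mem_sInf.1 hv K hK)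
theorem zdec (z : Zi) : z = z.re + z.im * gI := by ext <;> simp [gI]
theorem zsm (z : Zi) (v : RuVec) : z • v = z.re • v + z.im • gI • v := by
  conv_lhs => rw [zdec z, add_smul, mul_smul, Int.cast_smul_eq_zsmul, Int.cast_smul_eq_zsmul]
def Lm : Submodule Zi RuVec where
  __ := ruLattice
  smul_mem' z v hv := zsm z v ▸ add_mem (zsmul_mem hv _) (zsmul_mem (gI_smul_mem_ruLattice hv) _)
def op (t : ℕ) (v : RuVec) : RuVec := if t = 0 then ruRj v else if t = 1 then ruRk v else if t = 2 then ruSign v else if t = 3 then ruShift v else gI • v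
theorem op_mem (t : ℕ) {v} (hv : v ∈ ruLattice) : op t v ∈ ruLattice := cl (fun K hK v hv => by
  obtain ⟨a, b, c, d, e⟩ := hK.2 v hv
  unfold op; split_ifs <;> assumption) hv
def ap (w : List ℕ) (t : ℕ) : RuVec := w.foldr op (ruTable.getD t 0)
theorem ap_mem (t : ℕ) : ∀ w, ap w t ∈ ruLattice
  | [] => by
    show ruTable.getD t 0 ∈ _
    rw [List.getD_eq_getElem?_getD]
    cases h : ruTable[t]? with
    | none => exact zero_mem _
    | some v => exact AddSubgroup.mem_sInf.2 fun K hK => hK.1 v (List.mem_of_getElem? h)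
  | x :: w => op_mem x (ap_mem t w)
def ix (p : RuIdx) : ℕ := 4 * p.1 + p.2
def gm (a : ℕ) : Mx := of fun q p => (fun x : ℕ => ⟨(x % 65536 : ℕ) - 32768, (x / 65536 : ℕ) - 32768⟩) (lane 32 a (28 * ix q + ix p))
def ep (p : RuIdx) : RuVec := Pi.single p 4
theorem ep_eq : ∀ p q, ep p q = ap (Ew.getD (ix p) []) 0 q := by decide +kernel
def E (p : RuIdx) : ruLattice := ⟨ep p, funext (ep_eq p) ▸ ap_mem _ _⟩
theorem B_eq : ∀ p q, gm Bc q p = ap (Bw.getD (ix p) (0, [])).2 (Bw.getD (ix p) (0, [])).1 q := by decide +kernel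
def S : Submodule Zi RuVec := Submodule.span Zi (Set.range (gm Bc).col)
theorem mS (c) : gm Bc *ᵥ c ∈ S := by rw [S, ← range_mulVecLin]; exact ⟨c, rfl⟩
theorem SL : S ≤ Lm := Submodule.span_le.2 (by rintro _ ⟨p, rfl⟩; exact (funext (B_eq p) : (gm Bc).col p = _) ▸ ap_mem _ _)
theorem lin (T : RuVec →ₗ[Zi] RuVec) (d : Zi) (c : ℕ) (h : ∀ p q, T ((gm Bc)ᵀ p) q = d * ∑ r, gm Bc q r * gm c r p) {x} (hx : x ∈ S) :
    ∃ y ∈ S, d • y = T x := by
  rw [S, ← range_mulVecLin] at hx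
  obtain ⟨c', rfl⟩ := hx
  refine ⟨_, mS (gm c *ᵥ c'), ?_⟩
  rw [mulVecLin_apply, mulVec_eq_sum c' (gm Bc), map_sum]
  ext1 q
  simp only [op_smul_eq_smul, map_smul, Finset.sum_apply, Pi.smul_apply, h, mulVec, dotProduct, smul_eq_mul, mul_sum]
  rw [sum_comm]; exact sum_congr rfl fun _ _ => sum_congr rfl fun _ _ => by ring
def opL (t : Fin 4) : RuVec →ₗ[Zi] RuVec where
  toFun := op t
  map_add' u v := by funext ⟨a, b⟩; fin_cases t <;> fin_cases b <;> simp [op, ruRj, ruRk, ruSign, ruShift, mul_add, add_comm] <;> split_ifs <;> simp [add_comm]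
  map_smul' u v := by funext ⟨a, b⟩; fin_cases t <;> fin_cases b <;> simp [op, ruRj, ruRk, ruSign, ruShift, mul_left_comm]
end H0.Ru
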