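import Cfsg.Agent.H0.Ru.D3
set_option maxRecDepth 100000
set_option Elab.async false
namespace H0.Ru
theorem ynd : nd 40 Y = true := by decide +kernel
theorem yc1 : Y.countP (fun r => Nat.beq (r % 512 ^ 1) (kb.getD 1 0 % 512 ^ 1)) ≤ sz.getD 1 0 := by decide +kernel
theorem yc4 : Y.countP (fun r => Nat.beq (r % 512 ^ 4) (kb.getD 4 0 % 512 ^ 4)) ≤ sz.getD 4 0 := by decide +kernel
theorem yc7 : Y.countP (fun r => Nat.beq (r % 512 ^ 7) (kb.getD 7 0 % 512 ^ 7)) ≤ sz.getD 7 0 := by decide +kernel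
theorem yc10 : Y.countP (fun r => Nat.beq (r % 512 ^ 10) (kb.getD 10 0 % 512 ^ 10)) ≤ sz.getD 10 0 := by decide +kernel
theorem yc13 : Y.countP (fun r => Nat.beq (r % 512 ^ 13) (kb.getD 13 0 % 512 ^ 13)) ≤ sz.getD 13 0 := by decide +kernel
theorem yc16 : Y.countP (fun r => Nat.beq (r % 512 ^ 16) (kb.getD 16 0 % 512 ^ 16)) ≤ sz.getD 16 0 := by decide +kernel
theorem yc19 : Y.countP (fun r => Nat.beq (r % 512 ^ 19) (kb.getD 19 0 % 512 ^ 19)) ≤ sz.getD 19 0 := by decide +kernel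
end H0.Ru
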