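import Cfsg.Agent.H0.Ru.D2
set_option maxRecDepth 100000
set_option Elab.async false
namespace H0.Ru
open BN H6
theorem r0 : rB 0 98 = true := by decide +kernel
theorem r98 : rB 98 71 = true := by decide +kernel
theorem r169 : rB 169 70 = true := by decide +kernel
theorem r239 : rB 239 70 = true := by decide +kernel
theorem r309 : rB 309 66 = true := by decide +kernel
theorem r375 : rB 375 60 = true := by decide +kernel
theorem r435 : rB 435 59 = true := by decide +kernel
end H0.Ru
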