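import Mathlib

/-! Welch-bound designs over the Gaussian integers. -/

namespace H0.Ru
open Finset
abbrev Zi := GaussianInt
variable {A : Type*} [Fintype A]
def ip (u v : A → Zi) : Zi := ∑ a, u a * star (v a)
theorem ip_star (u v : A → Zi) : star (ip u v) = ip v u := by simp [ip, mul_comm]
theorem ip_addl (u v w : A → Zi) : ip (u + v) w = ip u w + ip v w := by simp [ip, add_mul, sum_add_distrib]
theorem ip_addr (u v w : A → Zi) : ip w (u + v) = ip w u + ip w v := by simp [ip, mul_add, sum_add_distrib]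
theorem ip_subl (u v w : A → Zi) : ip (u - v) w = ip u w - ip v w := by simp [ip, sub_mul]
theorem ip_subr (u v w : A → Zi) : ip w (u - v) = ip w u - ip w v := by simp [ip, mul_sub]
theorem ip_smull (c : Zi) (u v : A → Zi) : ip (c • u) v = c * ip u v := by simp [ip, mul_sum, mul_assoc]
theorem ip_smulr (c : Zi) (u v : A → Zi) : ip u (c • v) = star c * ip u v := by simp [ip, mul_sum, mul_left_comm]
theorem ip_suml {J : Type*} (s : Finset J) (u : J → A → Zi) (v : A → Zi) : ip (∑ j ∈ s, u j) v = ∑ j ∈ s, ip (u j) v := by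
  simp [ip, sum_mul, sum_comm (s := s)]
theorem ip_sumr {J : Type*} (s : Finset J) (u : J → A → Zi) (v : A → Zi) : ip v (∑ j ∈ s, u j) = ∑ j ∈ s, ip v (u j) := by
  simp [ip, mul_sum, sum_comm (s := s)]
theorem ip_self (u : A → Zi) : ip u u = ((∑ a, (u a).norm : ℤ) : Zi) := by simp [ip, Zsqrtd.norm_eq_mul_conj]
theorem ip_re (u : A → Zi) : (ip u u).re = ∑ a, (u a).norm := by rw [ip_self]; rfl
theorem zero_of_ip {u : A → Zi} (h : (ip u u).re ≤ 0) : u = 0 := funext fun a =>
  GaussianInt.norm_eq_zero.1 ((sum_eq_zero_iff_of_nonneg fun a _ => GaussianInt.norm_nonneg (u a)).1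
    (le_antisymm (ip_re u ▸ h) (sum_nonneg fun a _ => GaussianInt.norm_nonneg (u a))) a (mem_univ a))
def t4 (x y z w : A → Zi) : A × A × A × A → Zi := fun p => x p.1 * y p.2.1 * star (z p.2.2.1) * star (w p.2.2.2)
theorem ip_t4 (x y z w x' y' z' w' : A → Zi) : ip (t4 x y z w) (t4 x' y' z' w') = ip x x' * ip y y' * ip z' z * ip w' w := by
  simp only [ip, t4, Fintype.sum_prod_type, star_mul', star_star]
  rw [mul_assoc, mul_assoc, sum_mul_sum univ univ (fun a => z' a * _)]
  simp only [sum_mul]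
  simp only [mul_sum]
  exact sum_congr rfl fun _ _ => sum_congr rfl fun _ _ => sum_congr rfl fun _ _ => sum_congr rfl fun _ _ => by ring
variable [DecidableEq A]
theorem ip_sr (x : A → Zi) (a : A) (c : Zi) : ip x (Pi.single a c) = x a * star c := by simp [ip, Pi.single_apply, apply_ite star]
theorem ip_sl (x : A → Zi) (a : A) (c : Zi) : ip (Pi.single a c) x = c * star (x a) := by simp [ip, Pi.single_apply]
def S4 : A × A × A × A → Zi := ∑ p, ∑ q, (t4 (Pi.single p 1) (Pi.single q 1) (Pi.single p 1) (Pi.single q 1) +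
  t4 (Pi.single p 1) (Pi.single q 1) (Pi.single q 1) (Pi.single p 1))
theorem ip_S4 (x y z w : A → Zi) : ip (t4 x y z w) S4 = ip x z * ip y w + ip x w * ip y z := by
  simp only [S4, ip_sumr, ip_addr, ip_t4, ip_sr, ip_sl, sum_add_distrib]
  simp only [ip, sum_mul_sum]
  congr 1 <;> exact sum_congr rfl fun _ _ => sum_congr rfl fun _ _ => by simp; ring
theorem S4_S4 (h : Fintype.card A = 28) : ip (S4 (A := A)) S4 = 1624 := by
  conv => enter [1, 1]; rw [S4]
  simp only [ip_suml, ip_addl, ip_S4, ip_sr, Pi.single_apply]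
  simp [sum_add_distrib, h, eq_comm]; norm_num
variable {J : Type*} [Fintype J] {u : J → A → Zi}
theorem welch (hA : Fintype.card A = 28) (hJ : Fintype.card J = 4060) (h0 : ∀ i, ip (u i) (u i) = 16)
    (h1 : ∀ i, ∑ j, ((ip (u i) (u j)).norm : Zi) ^ 2 = 655360) (x y z w : A → Zi) :
    ∑ j, ip x (u j) * ip y (u j) * ip (u j) z * ip (u j) w = 1280 * (ip x z * ip y w + ip x w * ip y z) := by
  have a : ∀ i, ip (t4 (u i) (u i) (u i) (u i)) S4 = 512 := fun i => by rw [ip_S4, h0]; norm_num
  have b : ∀ i, ip S4 (t4 (u i) (u i) (u i) (u i)) = 512 := fun i => by rw [← ip_star, a]; rfl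
  have c : ∀ i, ∑ j, ip (t4 (u i) (u i) (u i) (u i)) (t4 (u j) (u j) (u j) (u j)) = 655360 := fun i => by
    rw [← h1 i]; exact sum_congr rfl fun j _ => by rw [ip_t4, Zsqrtd.norm_eq_mul_conj, ip_star]; ring
  have := sub_eq_zero.1 (zero_of_ip (u := ∑ j, t4 (u j) (u j) (u j) (u j) - (1280 : Zi) • S4) (by
    simp only [ip_subl, ip_subr, ip_smull, ip_smulr, ip_suml, ip_sumr, a, b, S4_S4 hA]
    simp only [sum_sub_distrib]
    rw [sum_comm]
    simp only [c, sum_const, card_univ, hJ]
    decide +kernel))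
  have := congrArg (ip (t4 x y z w)) this
  simpa only [ip_sumr, ip_t4, ip_smulr, ip_S4, star_ofNat] using this
theorem welch1 (hA : Fintype.card A = 28) (h0 : ∀ i, ip (u i) (u i) = 16)
    (h : ∀ x y z w : A → Zi, ∑ j, ip x (u j) * ip y (u j) * ip (u j) z * ip (u j) w = 1280 * (ip x z * ip y w + ip x w * ip y z))
    (x z : A → Zi) : ∑ j, ip x (u j) * ip (u j) z = 2320 * ip x z := by
  have := sum_congr (rfl : (univ : Finset A) = _) fun p _ => h x (Pi.single p 1) z (Pi.single p 1)
  rw [sum_comm] at this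
  have e : ∀ j, ∑ p, ip x (u j) * ip (Pi.single p 1) (u j) * ip (u j) z * ip (u j) (Pi.single p 1) = 16 * (ip x (u j) * ip (u j) z) := fun j => by
    rw [← h0 j, show ip (u j) (u j) = ∑ a, u j a * star (u j a) from rfl, sum_mul]; exact sum_congr rfl fun p _ => by simp [ip_sr, ip_sl]; ring
  have e2 : ∑ p, ip x (Pi.single p 1) * ip (Pi.single p 1) z = ip x z := by simp only [ip_sr, ip_sl]; simp [ip]
  simp only [e, ← mul_sum, sum_add_distrib, e2] at this
  simp only [ip_sr, Pi.single_eq_same] at this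
  refine mul_left_cancel₀ (show (16 : Zi) ≠ 0 by decide) (this.trans ?_)
  simp [hA]; ring
theorem nsq (z : Zi) : z.norm = z.re ^ 2 + z.im ^ 2 := by rw [Zsqrtd.norm_def]; ring
theorem le_sq (a : ℤ) : a ≤ a ^ 2 := by nlinarith [Int.le_self_sq a]
theorem two_le (z : Zi) : 2 * |z.re * z.im| ≤ z.norm ^ 2 - z.norm := by
  rw [nsq]
  by_cases h : z.re * z.im = 0
  · simpa [h] using le_sq _
  · have h1 : 1 ≤ z.re ^ 2 := sq_pos_of_ne_zero (left_ne_zero_of_mul h)
    have h2 : 1 ≤ z.im ^ 2 := sq_pos_of_ne_zero (right_ne_zero_of_mul h)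
    have : 2 * |z.re * z.im| ≤ z.re ^ 2 + z.im ^ 2 := by
      rcases abs_cases (z.re * z.im) with e | e <;> nlinarith [sq_nonneg (z.re - z.im), sq_nonneg (z.re + z.im)]
    nlinarith
theorem re_sum {J : Type*} (s : Finset J) (f : J → Zi) : (∑ j ∈ s, f j).re = ∑ j ∈ s, (f j).re := by
  induction s using Finset.cons_induction <;> simp [*]
theorem im_sum {J : Type*} (s : Finset J) (f : J → Zi) : (∑ j ∈ s, f j).im = ∑ j ∈ s, (f j).im := by
  induction s using Finset.cons_induction <;> simp [*]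
theorem classify (hA : Fintype.card A = 28) (hJ : Fintype.card J = 4060) (h0 : ∀ i, ip (u i) (u i) = 16)
    (h1 : ∀ i, ∑ j, ((ip (u i) (u j)).norm : Zi) ^ 2 = 655360) (h2 : ∀ i j, i ≠ j → ∃ s : Zi, ip (u j) (u i) = 4 * s ∧ s.norm ≤ 1)
    {x : A → Zi} (hx : ip x x = 16) (h3 : ∀ j, 4 ∣ ip x (u j)) : ∃ j, ∃ ε : Zi, ε.norm = 1 ∧ x = ε • u j := by
  classical
  have W := welch hA hJ h0 h1
  have W1 := welch1 hA h0 W
  have s4 : ∀ i, ∃ s : J → Zi, (∀ j, ip (u j) (u i) = 4 * s j) ∧ s i = 4 ∧ ∀ j, j ≠ i → (s j).norm ≤ 1 := fun i => by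
    choose! s a b using h2 i
    refine ⟨fun j => if j = i then 4 else s j, fun j => ?_, by simp, fun j hj => by simpa [hj] using b j hj.symm⟩
    by_cases e : j = i
    · simp only [e, h0, if_true]; norm_num
    · simpa only [if_neg e] using a j (Ne.symm e)
  have real : ∀ x : A → Zi, ip x x = 16 → ∀ z : J → Zi, (∀ j, ip x (u j) = 4 * z j) → ∀ i, (z i).im = 0 → 2 ≤ (z i).re → x = u i := fun x hx z hz i e1 e2 => by
    obtain ⟨s, s1, s2, s3⟩ := s4 i
    have hz' : ∀ j, ip (u j) x = 4 * star (z j) := fun j => by rw [← ip_star, hz]; simp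
    have hs' : ∀ j, ip (u i) (u j) = 4 * star (s j) := fun j => by rw [← ip_star, s1]; simp
    have a1 : ∑ j, z j * s j = 580 * z i := mul_left_cancel₀ (show (16 : Zi) ≠ 0 by decide) (by
      have := W1 x (u i); simp only [hz, s1] at this; rw [mul_sum]
      exact (sum_congr rfl fun j _ => by ring).trans (this.trans (by ring)))
    have a2 : ∑ j, (z j * s j) ^ 2 = 160 * z i ^ 2 := mul_left_cancel₀ (show (256 : Zi) ≠ 0 by decide) (by
      have := W x x (u i) (u i); simp only [hz, s1] at this; rw [mul_sum]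
      exact (sum_congr rfl fun j _ => by ring).trans (this.trans (by ring)))
    have a3 : ∑ j, z j * s j * star (z j * s j) = 1280 + 80 * (z i * star (z i)) := mul_left_cancel₀ (show (256 : Zi) ≠ 0 by decide) (by
      have := W x (u i) x (u i); rw [hx, h0] at this; simp only [hz, hz', hs', s1] at this; rw [mul_sum]
      exact (sum_congr rfl fun j _ => by rw [star_mul']; ring).trans (this.trans (by ring)))
    have b : ∑ j, (2 * (z j * s j).re ^ 2 - 2 * (z j * s j).re) = 1280 + 240 * (z i).re ^ 2 - 1160 * (z i).re := by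
      have c1 := congrArg Zsqrtd.re a1
      have c2 := congrArg Zsqrtd.re (congrArg₂ (· + ·) a2 a3)
      rw [← sum_add_distrib, re_sum] at c2
      rw [re_sum] at c1
      rw [sum_sub_distrib, ← mul_sum _ (fun j => (z j * s j).re), c1, (sum_congr rfl fun j _ => ?_).trans c2]
      · simp [sq, e1]; ring
      · generalize z j * s j = y; simp [sq]; ring
    have := single_le_sum (f := fun j => 2 * (z j * s j).re ^ 2 - 2 * (z j * s j).re) (fun j _ => by linarith [le_sq (z j * s j).re]) (mem_univ i)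
    rw [b, s2] at this
    have e3 : 4 ≤ (z i).re := by
      simp at this
      by_contra h
      obtain e | e : (z i).re = 2 ∨ (z i).re = 3 := by omega
      all_goals rw [e] at this; omega
    refine sub_eq_zero.1 (zero_of_ip ?_)
    rw [ip_subl, ip_subr, ip_subr, hx, h0, hz, hz']
    simp; omega
  choose z hz using h3
  have hz' : ∀ j, ip (u j) x = 4 * star (z j) := fun j => by rw [← ip_star, hz]; simp
  have t : ∑ j, ((z j).norm ^ 2 - (z j).norm) = 240 := by
    have a1 : ∑ j, ((z j).norm : Zi) = 2320 := mul_left_cancel₀ (show (16 : Zi) ≠ 0 by decide) (by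
      have := W1 x x; simp only [hz, hz', hx] at this; rw [mul_sum]
      exact (sum_congr rfl fun j _ => by rw [Zsqrtd.norm_eq_mul_conj]; ring).trans (this.trans (by ring)))
    have a2 : ∑ j, ((z j).norm : Zi) ^ 2 = 2560 := mul_left_cancel₀ (show (256 : Zi) ≠ 0 by decide) (by
      have := W x x x x; simp only [hz, hz', hx] at this; rw [mul_sum]
      exact (sum_congr rfl fun j _ => by rw [Zsqrtd.norm_eq_mul_conj]; ring).trans (this.trans (by ring)))
    have : ((∑ j, ((z j).norm ^ 2 - (z j).norm) : ℤ) : Zi) = (240 : ℤ) := by push_cast; rw [sum_sub_distrib, a1, a2]; norm_num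
    exact Int.cast_injective this
  obtain ⟨i, -, hi⟩ := exists_ne_zero_of_sum_ne_zero (t.trans_ne (by decide))
  have e0 : (z i).re * (z i).im = 0 := by
    obtain ⟨s, s1, s2, s3⟩ := s4 i
    have a2 : ∑ j, (z j * s j) ^ 2 = 160 * z i ^ 2 := mul_left_cancel₀ (show (256 : Zi) ≠ 0 by decide) (by
      have := W x x (u i) (u i); simp only [hz, s1] at this; rw [mul_sum]
      exact (sum_congr rfl fun j _ => by ring).trans (this.trans (by ring)))
    have c := congrArg Zsqrtd.im a2
    rw [im_sum, ← add_sum_erase _ _ (mem_univ i), s2] at c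
    rw [← add_sum_erase _ _ (mem_univ i)] at t
    have d := (abs_sum_le_sum_abs _ _).trans (sum_le_sum (s := univ.erase i) (f := fun j => |((z j * s j) ^ 2).im|)
      (g := fun j => (z j).norm ^ 2 - (z j).norm) fun j hj => by
        have h1 := s3 j (ne_of_mem_erase hj)
        have h2 := two_le (z j * s j)
        have : |((z j * s j) ^ 2).im| = 2 * |(z j * s j).re * (z j * s j).im| := by
          generalize z j * s j = y; rw [← abs_two, ← abs_mul]; congr 1; simp [sq]; ring
        rw [this]; rw [Zsqrtd.norm_mul] at h2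
        obtain e | e : (s j).norm = 0 ∨ (s j).norm = 1 := by have := GaussianInt.norm_nonneg (s j); omega
        all_goals rw [e] at h2; linarith [le_sq (z j).norm])
    have c2 : ∑ j ∈ univ.erase i, ((z j * s j) ^ 2).im = 288 * ((z i).re * (z i).im) := by simp [sq] at c ⊢; linarith
    rw [c2, abs_mul] at d
    have := le_sq (z i).norm
    by_contra h
    have := abs_pos.2 h
    simp only [Nat.abs_ofNat] at d; omega
  have key : ∀ ε : Zi, ε.norm = 1 → (ε * z i).im = 0 → 2 ≤ (ε * z i).re → ∃ j, ∃ ε : Zi, ε.norm = 1 ∧ x = ε • u j := fun ε h a b => by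
    have e : star ε * ε = 1 := by rw [mul_comm, ← Zsqrtd.norm_eq_mul_conj, h]; rfl
    refine ⟨i, star ε, by simpa, ?_⟩
    rw [← real (ε • x) (by rw [ip_smull, ip_smulr, hx, ← mul_assoc, mul_comm ε, e, one_mul]) (fun j => ε * z j)
      (fun j => by rw [ip_smull, hz]; ring) i a b, smul_smul, e, one_smul]
  rw [nsq] at hi
  have q : ∀ a : ℤ, (a ^ 2) ^ 2 - a ^ 2 ≠ 0 → 2 ≤ a ∨ 2 ≤ -a := fun a h => by
    by_contra h'
    obtain rfl | rfl | rfl : a = -1 ∨ a = 0 ∨ a = 1 := by omega
    all_goals simp at h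
  rcases mul_eq_zero.1 e0 with e | e <;> rcases q _ (by simpa [e] using hi) with h | h
  · exact key ⟨0, -1⟩ rfl (by simp [e]) (by simpa)
  · exact key ⟨0, 1⟩ rfl (by simp [e]) (by simpa)
  · exact key 1 rfl (by simp [e]) (by simpa)
  · exact key (-1) rfl (by simp [e]) (by simpa)
end H0.Ru
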